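import Cfsg.Agent.Solvable.Basics
import Mathlib.GroupTheory.SemidirectProduct
import Mathlib.Algebra.Group.PUnit

/-!
# Groups with a bijective one-cocycle

Every solvable group whose order only involves primes dividing `e` embeds in a group with a
bijective one-cocycle to an abelian group of exponent dividing `e`: iterate semidirect products
of function groups with values in elementary abelian normal subgroups.
-/

set_option autoImplicit false
set_option linter.style.haveILetI false

namespace CfsgLib.CentralTypeEmbedding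

universe u

/-- Translation of the arguments of a function. -/
def translate (W : Type u) [Group W] (N : Type u) [CommGroup N] : W →* MulAut (W → N) where
  toFun w :=
    { toFun := fun f x => f (w⁻¹ * x)
      invFun := fun f x => f (w * x)
      left_inv := fun f => funext fun x => by simp
      right_inv := fun f => funext fun x => by simp
      map_mul' := fun _ _ => rfl }
  map_one' := MulEquiv.ext fun f => funext fun x => by simp
  map_mul' v w := MulEquiv.ext fun f => funext fun x => by simp [mul_assoc]

@[simp] theorem translate_apply {W : Type u} [Group W] {N : Type u} [CommGroup N] (w : W)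
    (f : W → N) (x : W) : translate W N w f x = f (w⁻¹ * x) := rfl

/-- `W` has a bijective cocycle into an abelian group of exponent dividing `e`. -/
def HasCocycle (e : ℕ) (W : Type u) [Group W] : Prop :=
  ∃ (M : Type u) (_ : CommGroup M) (_ : Finite M) (ρ : W →* MulAut M) (π : W → M),
    Function.Bijective π ∧ (∀ x y : W, π (x * y) = π x * ρ x (π y)) ∧ ∀ m : M, m ^ e = 1

theorem hasCocycle_semidirect {e : ℕ} {W : Type u} [Group W] [Finite W] {N : Type u} [CommGroup N]
    [Finite N] (hN : ∀ n : N, n ^ e = 1) (hW : HasCocycle e W) :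
    HasCocycle e ((W → N) ⋊[translate W N] W) := by
  obtain ⟨M, _, _, ρ, π, hπ, hco, hM⟩ := hW
  refine ⟨(W → N) × M, inferInstance, inferInstance,
    { toFun := fun k => MulEquiv.prodCongr (translate W N k.right) (ρ k.right)
      map_one' := MulEquiv.ext fun a => by
        simp only [SemidirectProduct.one_right, map_one]
        rfl
      map_mul' := fun k l => MulEquiv.ext fun a => by
        simp only [SemidirectProduct.mul_right, map_mul]
        rfl },
    fun k => (k.left, π k.right), ⟨?_, ?_⟩, ?_, ?_⟩
  · intro k l h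
    simp only [Prod.mk.injEq] at h
    exact SemidirectProduct.ext h.1 (hπ.1 h.2)
  · rintro ⟨a, m⟩
    obtain ⟨w, rfl⟩ := hπ.2 m
    exact ⟨⟨a, w⟩, rfl⟩
  · intro k l
    simp only [MonoidHom.coe_mk, OneHom.coe_mk, SemidirectProduct.mul_left,
      SemidirectProduct.mul_right, hco]
    rfl
  · intro a
    exact Prod.ext (funext fun x => hN _) (hM _)

/-- The embedding of solvable groups. -/
theorem exists_embedding (e : ℕ) (G : Type u) [Group G] [Finite G] (hs : Group.IsSolvable G)
    (he : ∀ p : ℕ, p.Prime → p ∣ Nat.card G → p ∣ e) :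
    ∃ (W : Type u) (_ : Group W) (_ : Finite W), HasCocycle e W ∧
      ∃ f : G →* W, Function.Injective f := by
  induction hn : Nat.card G using Nat.strong_induction_on generalizing G with
  | _ n ih =>
    rcases subsingleton_or_nontrivial G with hG | hG
    · exact ⟨PUnit, inferInstance, inferInstance,
        ⟨PUnit, inferInstance, inferInstance, 1, id, Function.bijective_id,
          fun _ _ => rfl, fun _ => rfl⟩, 1, Function.injective_of_subsingleton _⟩
    have htop : (⊤ : Subgroup G) ≠ ⊥ := top_ne_bot
    haveI := hs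
    obtain ⟨N, hNn, hN1, -, hNc, -, p, hp, hexp, hNp⟩ :=
      CfsgLib.Solvable.exists_normal_elementary_le htop inferInstance
    haveI := hNn
    haveI : Fact p.Prime := ⟨hp⟩
    have hpe : p ∣ e := by
      obtain ⟨x, hx, hx1⟩ := (Subgroup.bot_or_exists_ne_one N).resolve_left hN1
      refine he p hp ?_
      rw [← orderOf_eq_prime (hexp x hx) hx1]
      exact orderOf_dvd_natCard x
    have hlt : Nat.card (G ⧸ N) < n := by
      rw [← hn, ← N.card_mul_index]
      have h2 : 1 < Nat.card N :=
        Nat.lt_of_le_of_ne Nat.card_pos fun h => hN1 (Subgroup.card_eq_one.1 h.symm)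
      exact lt_mul_of_one_lt_left Nat.card_pos h2
    obtain ⟨W, _, _, hW, ι, hι⟩ := ih _ hlt (G ⧸ N) inferInstance
      (fun q hq hqd => he q hq (hqd.trans N.card_quotient_dvd_card)) rfl
    letI : CommGroup N :=
      { (inferInstance : Group N) with mul_comm := fun a b => hNc.is_comm.comm a b }
    have hNe : ∀ a : N, a ^ e = 1 := fun a => by
      obtain ⟨k, hk⟩ := hpe
      refine Subtype.ext ?_
      rw [SubmonoidClass.coe_pow, hk, pow_mul, hexp _ a.2, one_pow, OneMemClass.coe_one]
    refine ⟨(W → N) ⋊[translate W N] W, inferInstance,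
      Finite.of_equiv _ SemidirectProduct.equivProd.symm, hasCocycle_semidirect hNe hW, ?_⟩
    set ψ : G →* W := ι.comp (QuotientGroup.mk' N) with hψ
    have hker : ∀ g : G, ψ g = 1 ↔ g ∈ N := fun g => by
      rw [hψ, MonoidHom.comp_apply, map_eq_one_iff ι hι, QuotientGroup.mk'_apply,
        QuotientGroup.eq_one_iff]
    have ht : ∀ w : W, ∃ g : G, ψ g = w * (QuotientGroup.mk (s := ψ.range) w⁻¹).out := fun w => by
      obtain ⟨x, hx⟩ := QuotientGroup.mk_out_eq_mul ψ.range w⁻¹
      obtain ⟨g, hg⟩ := x.2
      exact ⟨g, by rw [hx, hg, mul_inv_cancel_left]⟩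
    choose t ht using ht
    have hmk : ∀ (g : G) (w : W), (QuotientGroup.mk (s := ψ.range) ((ψ g)⁻¹ * w)⁻¹) =
        QuotientGroup.mk w⁻¹ := fun g w => by
      rw [mul_inv_rev, inv_inv]
      exact QuotientGroup.mk_mul_of_mem _ ⟨g, rfl⟩
    have hmem : ∀ (g : G) (w : W), (t w)⁻¹ * g * t ((ψ g)⁻¹ * w) ∈ N := fun g w => by
      rw [← hker, map_mul, map_mul, map_inv, ht, ht, hmk]
      group
    refine ⟨{ toFun := fun g => ⟨fun w => ⟨_, hmem g w⟩, ψ g⟩
              map_one' := ?_
              map_mul' := ?_ }, ?_⟩
    · refine SemidirectProduct.ext (funext fun w => Subtype.ext ?_) (map_one ψ)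
      show (t w)⁻¹ * 1 * t ((ψ 1)⁻¹ * w) = 1
      simp
    · intro g g'
      refine SemidirectProduct.ext (funext fun w => Subtype.ext ?_) (map_mul ψ g g')
      show (t w)⁻¹ * (g * g') * t ((ψ (g * g'))⁻¹ * w) =
        ((t w)⁻¹ * g * t ((ψ g)⁻¹ * w)) *
          ((t ((ψ g)⁻¹ * w))⁻¹ * g' * t ((ψ g')⁻¹ * ((ψ g)⁻¹ * w)))
      rw [map_mul, mul_inv_rev, mul_assoc (ψ g')⁻¹]
      group
    · intro g g' h
      have h1 : ψ g = ψ g' := congrArg SemidirectProduct.right h
      have h2 := congrArg (Subtype.val : N → G) (congrFun (congrArg SemidirectProduct.left h) 1)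
      change (t 1)⁻¹ * g * t ((ψ g)⁻¹ * 1) = (t 1)⁻¹ * g' * t ((ψ g')⁻¹ * 1) at h2
      rw [h1] at h2
      exact mul_left_cancel (mul_right_cancel h2)

end CfsgLib.CentralTypeEmbedding
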