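import Cfsg.Agent.CentralTypeEmbedding.Cocycle
import Cfsg.Agent.Char.Clifford
import Cfsg.Agent.Char.Linear
import Cfsg.Prelude.Def_Blocks
import Mathlib.RingTheory.RootsOfUnity.Complex
import Mathlib.GroupTheory.Perm.Cycle.Type
import Mathlib.Data.Nat.Squarefree

/-!
# Solvable groups inside central quotients of groups of central type

For a group `W` with a bijective cocycle into `M`, the extension of `W` by the product of the
roots of unity and the dual of `M` has a faithful irreducible character fully ramified over its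
center.
-/

set_option autoImplicit false
set_option linter.style.haveILetI false

namespace CfsgLib.CentralTypeEmbedding

open Cfsg CfsgLib.Char

universe u

section Action

variable {e : ℕ} {W M : Type u} [Group W] [CommGroup M] (ρ : W →* MulAut M) (π : W → M)
  (hco : ∀ x y : W, π (x * y) = π x * ρ x (π y))

include hco in
theorem map_one_cocycle : π 1 = 1 := by
  have h := hco 1 1
  rw [mul_one, map_one, MulAut.one_apply] at h
  exact left_eq_mul.1 h

/-- The action twisted by the cocycle, as a function. -/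
noncomputable def twistFun (w : W) (a : rootsOfUnity e ℂ × (M →* rootsOfUnity e ℂ)) :
    rootsOfUnity e ℂ × (M →* rootsOfUnity e ℂ) :=
  (a.1 * a.2 (π w⁻¹), a.2.comp (ρ w⁻¹).toMonoidHom)

include hco in
theorem twistFun_mul (v w : W) (a : rootsOfUnity e ℂ × (M →* rootsOfUnity e ℂ)) :
    twistFun ρ π (v * w) a = twistFun ρ π v (twistFun ρ π w a) := by
  refine Prod.ext ?_ (MonoidHom.ext fun m => ?_)
  · simp only [twistFun, MonoidHom.comp_apply, MulEquiv.coe_toMonoidHom, mul_inv_rev, hco, map_mul]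
    rw [mul_assoc]
  · simp [twistFun, mul_inv_rev]

include hco in
theorem twistFun_one (a : rootsOfUnity e ℂ × (M →* rootsOfUnity e ℂ)) : twistFun ρ π 1 a = a := by
  refine Prod.ext ?_ (MonoidHom.ext fun m => ?_)
  · simp [twistFun, map_one_cocycle ρ π hco]
  · simp [twistFun]

/-- The twisted action. -/
noncomputable def twist : W →* MulAut (rootsOfUnity e ℂ × (M →* rootsOfUnity e ℂ)) where
  toFun w :=
    { toFun := twistFun ρ π w
      invFun := twistFun ρ π w⁻¹
      left_inv := fun a => by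
        rw [← twistFun_mul ρ π hco, inv_mul_cancel, twistFun_one ρ π hco]
      right_inv := fun a => by
        rw [← twistFun_mul ρ π hco, mul_inv_cancel, twistFun_one ρ π hco]
      map_mul' := fun a b => by
        refine Prod.ext ?_ (MonoidHom.ext fun m => rfl)
        simp only [twistFun, Prod.fst_mul, Prod.snd_mul, MonoidHom.mul_apply]
        exact mul_mul_mul_comm _ _ _ _ }
  map_one' := MulEquiv.ext fun a => twistFun_one ρ π hco a
  map_mul' v w := MulEquiv.ext fun a => twistFun_mul ρ π hco v w a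

theorem twist_apply (w : W) (a : rootsOfUnity e ℂ × (M →* rootsOfUnity e ℂ)) :
    twist ρ π hco w a = twistFun ρ π w a := rfl

/-- The extension. -/
abbrev Ext (e : ℕ) := (rootsOfUnity e ℂ × (M →* rootsOfUnity e ℂ)) ⋊[twist ρ π hco] W

theorem left_fst_mul (x y : Ext ρ π hco e) :
    (x * y).left.1 = x.left.1 * (y.left.1 * y.left.2 (π x.right⁻¹)) := rfl

theorem right_mul (x y : Ext ρ π hco e) : (x * y).right = x.right * y.right := rfl

include hco in
theorem left_fst_conj (g x : Ext ρ π hco e) (hx : x.right = 1) :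
    (g * x * g⁻¹).left.1 = x.left.1 * x.left.2 (π g.right⁻¹) := by
  have h1 : g * x * g⁻¹ = ⟨g.left * twist ρ π hco g.right x.left * g.left⁻¹, 1⟩ := by
    refine SemidirectProduct.ext ?_ ?_
    · rw [SemidirectProduct.mul_left, SemidirectProduct.mul_left, SemidirectProduct.mul_right, hx,
        mul_one, SemidirectProduct.inv_left, ← MulAut.mul_apply, ← map_mul, mul_inv_cancel, map_one,
        MulAut.one_apply]
    · rw [SemidirectProduct.mul_right, SemidirectProduct.mul_right, hx, mul_one,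
        SemidirectProduct.inv_right, mul_inv_cancel]
  rw [h1]
  show g.left.1 * (x.left.1 * x.left.2 (π g.right⁻¹)) * g.left.1⁻¹ = _
  rw [mul_comm g.left.1, mul_assoc, mul_inv_cancel, mul_one]

end Action

theorem eq_one_of_sum_eq {ι : Type*} (s : Finset ι) (z : ι → ℂ) (hz : ∀ i ∈ s, ‖z i‖ = 1)
    (h : ∑ i ∈ s, z i = s.card) {i : ι} (hi : i ∈ s) : z i = 1 := by
  have hre : ∀ j ∈ s, (z j).re ≤ 1 := fun j hj => hz j hj ▸ Complex.re_le_norm (z j)
  have h1 : ∑ j ∈ s, (z j).re = ∑ j ∈ s, (1 : ℝ) := by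
    rw [← Complex.re_sum, h, Complex.natCast_re, Finset.sum_const, nsmul_eq_mul, mul_one]
  have h2 := (Finset.sum_eq_sum_iff_of_le hre).1 h1 i hi
  refine Complex.ext (by simp [h2]) ?_
  have h3 : Complex.normSq (z i) = 1 := by rw [Complex.normSq_eq_norm_sq, hz i hi]; norm_num
  rw [Complex.normSq_apply, h2] at h3
  rw [Complex.one_im]
  exact mul_self_eq_zero.1 (by linarith)

theorem card_dual {e : ℕ} [NeZero e] {M : Type u} [CommGroup M] [Finite M]
    (hM : ∀ m : M, m ^ e = 1) :
    Nat.card (M →* rootsOfUnity e ℂ) = Nat.card M ∧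
      ∀ m : M, (∀ v : M →* rootsOfUnity e ℂ, v m = 1) → m = 1 := by
  haveI : NeZero (Monoid.exponent M : ℂ) := ⟨Nat.cast_ne_zero.2 Monoid.exponent_ne_zero_of_finite⟩
  let lift : (M →* ℂˣ) → (M →* rootsOfUnity e ℂ) := fun φ =>
    φ.codRestrict (rootsOfUnity e ℂ) fun m => by
      rw [mem_rootsOfUnity, ← map_pow, hM, map_one]
  have hl : Function.Bijective lift := ⟨fun a b h => MonoidHom.ext fun m =>
      congrArg (Subtype.val) (DFunLike.congr_fun h m),
    fun v => ⟨(rootsOfUnity e ℂ).subtype.comp v, MonoidHom.ext fun m => rfl⟩⟩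
  refine ⟨?_, fun m hm => ?_⟩
  · rw [← Nat.card_eq_of_bijective lift hl,
      CommGroup.card_monoidHom_of_hasEnoughRootsOfUnity M ℂ]
  · by_contra hne
    obtain ⟨φ, hφ⟩ := CommGroup.exists_apply_ne_one_of_hasEnoughRootsOfUnity M ℂ (a := m) hne
    exact hφ (congrArg Subtype.val (hm (lift φ)))

/-- Every solvable group embeds in the central quotient of a group of central type. -/
theorem exists_central_type (G : Type u) [Group G] [Finite G] (hs : Group.IsSolvable G) :
    ∃ (H : Type u) (_ : Group H) (_ : Finite H) (χ : Cfsg.IrrCharacter H),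
      (∀ h : H, (χ : H → ℂ) h = (χ : H → ℂ) 1 → h = 1) ∧
      (Cfsg.charDegree (χ : H → ℂ)) ^ 2 = (Subgroup.center H).index ∧
      (∃ f : G →* H ⧸ Subgroup.center H, Function.Injective f) ∧
      (∀ p : ℕ, p.Prime → ((p ∣ Nat.card H ↔ p ∣ Nat.card G) ∧
        (p ∣ Nat.card (Subgroup.center H) ↔ p ∣ Nat.card G))) ∧
      Squarefree (Nat.card (Subgroup.center H)) := by
  classical
  set e := ∏ p ∈ (Nat.card G).primeFactors, p with he
  have he0 : e ≠ 0 := Finset.prod_ne_zero_iff.2 fun p hp => (Nat.prime_of_mem_primeFactors hp).ne_zero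
  haveI : NeZero e := ⟨he0⟩
  have hpe : ∀ p : ℕ, p.Prime → (p ∣ e ↔ p ∣ Nat.card G) := fun p hp => by
    constructor
    · intro h
      obtain ⟨q, hq, hpq⟩ := hp.prime.exists_mem_finset_dvd h
      rw [(Nat.prime_dvd_prime_iff_eq hp (Nat.prime_of_mem_primeFactors hq)).1 hpq]
      exact Nat.dvd_of_mem_primeFactors hq
    · exact fun h => Finset.dvd_prod_of_mem _ (Nat.mem_primeFactors.2 ⟨hp, h, Nat.card_pos.ne'⟩)
  have hsq : Squarefree e := by
    refine Nat.squarefree_iff_prime_squarefree.2 fun p hp h => ?_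
    have hpm : p ∈ (Nat.card G).primeFactors :=
      Nat.mem_primeFactors.2 ⟨hp, (hpe p hp).1 (dvd_trans (dvd_mul_right p p) h), Nat.card_pos.ne'⟩
    rw [he, ← Finset.mul_prod_erase _ _ hpm] at h
    obtain ⟨q, hq, hpq⟩ := hp.prime.exists_mem_finset_dvd (Nat.dvd_of_mul_dvd_mul_left hp.pos h)
    exact (Finset.mem_erase.1 hq).1 ((Nat.prime_dvd_prime_iff_eq hp
      (Nat.prime_of_mem_primeFactors (Finset.mem_of_mem_erase hq))).1 hpq).symm
  obtain ⟨W, _, _, ⟨M, _, _, ρ, π, hπ, hco, hM⟩, f, hf⟩ :=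
    exists_embedding e G hs fun p hp h => (hpe p hp).2 h
  obtain ⟨hVcard, hsep⟩ := card_dual hM
  haveI : Finite (M →* rootsOfUnity e ℂ) :=
    Nat.finite_of_card_ne_zero (hVcard ▸ Nat.card_pos.ne')
  haveI : Finite (Ext ρ π hco e) :=
    Finite.of_equiv _ SemidirectProduct.equivProd.symm
  letI : Fintype (Ext ρ π hco e) := Fintype.ofFinite _
  let A : Subgroup (Ext ρ π hco e) := (SemidirectProduct.rightHom (φ := twist ρ π hco)).ker
  haveI : A.Normal := MonoidHom.normal_ker _
  have hA : ∀ x : (Ext ρ π hco e), x ∈ A ↔ x.right = 1 := fun x => Iff.rfl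
  haveI : Fintype A := Fintype.ofFinite A
  have hπ1 : π 1 = 1 := map_one_cocycle ρ π hco
  let lam : A →* ℂˣ :=
    { toFun := fun x => ((x : (Ext ρ π hco e)).left.1 : ℂˣ)
      map_one' := rfl
      map_mul' := fun x y => by
        show (((x : (Ext ρ π hco e)) * (y : (Ext ρ π hco e))).left.1 : ℂˣ) = _
        rw [SemidirectProduct.mul_left, (hA x).1 x.2, map_one, MulAut.one_apply, Prod.fst_mul,
          Subgroup.coe_mul] }
  have hθ : Cfsg.IsIrrCharacter A fun x => (lam x : ℂ) := isIrrCharacter_ofHom lam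
  -- conjugates of `lam`
  have hconj : ∀ (g : Ext ρ π hco e) (x : A),
      lam ⟨g * x * g⁻¹, (inferInstance : A.Normal).conj_mem x x.2 g⟩ =
        ((x : Ext ρ π hco e).left.1 * (x : Ext ρ π hco e).left.2 (π g.right⁻¹) :
          rootsOfUnity e ℂ) := fun g x => by
    show (((g * (x : Ext ρ π hco e) * g⁻¹).left.1 : rootsOfUnity e ℂ) : ℂˣ) = _
    rw [left_fst_conj ρ π hco g _ ((hA x).1 x.2)]
  have hrootsOne : ∀ (g : (Ext ρ π hco e)), (∀ v : M →* rootsOfUnity e ℂ, v (π g.right⁻¹) = 1) → g.right = 1 :=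
    fun g h => inv_eq_one.1 (hπ.1 ((hsep _ h).trans hπ1.symm))
  have hinertia : inertia (fun x : A => (lam x : ℂ)) ≤ A := fun g hg => by
    refine (hA g).2 (hrootsOne g fun v => ?_)
    have h := congrFun ((mem_inertia _ g).1 hg) ⟨⟨(1, v), 1⟩, rfl⟩
    rw [conjOn_apply, hconj] at h
    simpa [lam] using h
  let χ : Cfsg.IrrCharacter (Ext ρ π hco e) :=
    ⟨Cfsg.indFun A fun x => (lam x : ℂ), isIrrCharacter_indFun_of_inertia_le hθ hinertia⟩
  have hidx : A.index = Nat.card W := by
    rw [Subgroup.index_ker, MonoidHom.range_eq_top.2 SemidirectProduct.rightHom_surjective,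
      Subgroup.card_top]
  have hχ1 : (χ : (Ext ρ π hco e) → ℂ) 1 = (Nat.card W : ℂ) := by
    show Cfsg.indFun A (fun x => (lam x : ℂ)) 1 = _
    rw [indFun_one, hidx, map_one, Units.val_one, mul_one]
  have hdeg : Cfsg.charDegree (χ : (Ext ρ π hco e) → ℂ) = Nat.card W := by
    rw [Cfsg.charDegree, hχ1, Complex.natCast_re, Nat.floor_natCast]
  -- the center
  let ζH : rootsOfUnity e ℂ →* (Ext ρ π hco e) :=
    (SemidirectProduct.inl (φ := twist ρ π hco)).comp (MonoidHom.inl _ _)
  have hZ : Subgroup.center (Ext ρ π hco e) = ζH.range := by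
    refine le_antisymm (fun z hz => ?_) ?_
    · rw [Subgroup.mem_center_iff] at hz
      have hr : z.right = 1 := hrootsOne z fun v => by
        have h := congrArg (fun x : Ext ρ π hco e => x.left.1)
          (hz (SemidirectProduct.inl (1, v)))
        simp only [left_fst_mul, SemidirectProduct.left_inl, SemidirectProduct.right_inl, inv_one,
          hπ1, map_one, mul_one, one_mul] at h
        exact mul_eq_left.1 h.symm
      have hv : z.left.2 = 1 := MonoidHom.ext fun m => by
        obtain ⟨w, rfl⟩ := hπ.2 m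
        have h := congrArg (fun x : Ext ρ π hco e => x.left.1) (hz (SemidirectProduct.inr w⁻¹))
        simp only [left_fst_mul, SemidirectProduct.left_inr, SemidirectProduct.right_inr, inv_inv,
          Prod.fst_one, Prod.snd_one, MonoidHom.one_apply, one_mul, mul_one] at h
        exact mul_eq_left.1 h
      exact ⟨z.left.1, SemidirectProduct.ext (Prod.ext rfl hv.symm) hr.symm⟩
    · rintro _ ⟨ζ, rfl⟩
      rw [Subgroup.mem_center_iff]
      intro g
      refine SemidirectProduct.ext (Prod.ext ?_ (MonoidHom.ext fun m => ?_)) ?_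
      · show g.left.1 * (ζ * 1) = ζ * (g.left.1 * g.left.2 (π (1 : W)⁻¹))
        rw [inv_one, hπ1, map_one, mul_one, mul_one, mul_comm]
      · show g.left.2 m * 1 = 1 * g.left.2 (ρ (1 : W)⁻¹ m)
        rw [inv_one, map_one, MulAut.one_apply, mul_one, one_mul]
      · exact (mul_one g.right).trans (one_mul g.right).symm
  have hZinj : Function.Injective ζH := fun a b h =>
    congrArg Prod.fst (SemidirectProduct.inl_injective h)
  have hZcard : Nat.card (Subgroup.center (Ext ρ π hco e)) = e := by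
    rw [hZ, ← Nat.card_congr (MonoidHom.ofInjective hZinj).toEquiv]
    exact Complex.card_rootsOfUnity e
  have hMW : Nat.card M = Nat.card W := (Nat.card_eq_of_bijective π hπ).symm
  have hHcard : Nat.card (Ext ρ π hco e) = e * (Nat.card W * Nat.card W) := by
    rw [SemidirectProduct.card, Nat.card_prod, hVcard, hMW,
      Complex.card_rootsOfUnity e, mul_assoc]
  have hWp : ∀ p : ℕ, p.Prime → p ∣ Nat.card W → p ∣ e := fun p hp h => by
    haveI := Fact.mk hp
    obtain ⟨m, hm⟩ := exists_prime_orderOf_dvd_card' (G := M) p (hMW ▸ h)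
    rw [← hm]
    exact orderOf_dvd_of_pow_eq_one (hM m)
  refine ⟨(Ext ρ π hco e), inferInstance, inferInstance, χ, fun h hh => ?_, ?_, ?_, fun p hp => ⟨?_, ?_⟩, ?_⟩
  · have hWne : (Nat.card W : ℂ) ≠ 0 := Nat.cast_ne_zero.2 Nat.card_pos.ne'
    by_cases hhA : h ∈ A
    · have hsum : (Nat.card A : ℂ)⁻¹ * ∑ y : Ext ρ π hco e, (lam ⟨y * h * y⁻¹,
          (inferInstance : A.Normal).conj_mem h hhA y⟩ : ℂ) = (Nat.card W : ℂ) := by
        rw [← hχ1, ← hh]
        exact (indFun_apply_normal (fun x : A => (lam x : ℂ)) ⟨h, hhA⟩).symm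
      rw [inv_mul_eq_iff_eq_mul₀ (Nat.cast_ne_zero.2 Nat.card_pos.ne'), ← hidx, ← Nat.cast_mul,
        A.card_mul_index, Nat.card_eq_fintype_card] at hsum
      have hone : ∀ w : W, (h.left.1 * h.left.2 (π w⁻¹) : rootsOfUnity e ℂ) = 1 := fun w => by
        have h2 := hconj (SemidirectProduct.inr w) ⟨h, hhA⟩
        have h1 := eq_one_of_sum_eq Finset.univ _ (fun y _ => by
          rw [hconj y ⟨h, hhA⟩]
          exact Complex.norm_eq_one_of_pow_eq_one (n := e)
            (by rw [← Units.val_pow_eq_pow_val, (mem_rootsOfUnity e _).1 (SetLike.coe_mem _),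
              Units.val_one]) he0) hsum
            (Finset.mem_univ (SemidirectProduct.inr w : Ext ρ π hco e))
        rw [h2] at h1
        exact Subtype.ext (Units.ext h1)
      have h0 : h.left.1 = 1 := by simpa [hπ1] using hone 1
      refine SemidirectProduct.ext (Prod.ext h0 (MonoidHom.ext fun m => ?_)) ((hA h).1 hhA)
      obtain ⟨w, rfl⟩ := hπ.2 m
      simpa [h0] using hone w⁻¹
    · exact absurd ((indFun_eq_zero_of_normal (fun x : A => (lam x : ℂ)) hhA).symm.trans
        (hh.trans hχ1)).symm hWne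
  · have h := (Subgroup.center (Ext ρ π hco e)).card_mul_index
    rw [hZcard, hHcard] at h
    rw [hdeg, sq, Nat.eq_of_mul_eq_mul_left (Nat.pos_of_ne_zero he0) h]
  · refine ⟨(QuotientGroup.mk' _).comp ((SemidirectProduct.inr).comp f), fun a b hab => ?_⟩
    have h1 : ((SemidirectProduct.inr (f a) : (Ext ρ π hco e)))⁻¹ * SemidirectProduct.inr (f b) ∈ ζH.range :=
      hZ ▸ QuotientGroup.eq.1 hab
    obtain ⟨ζ, hζ⟩ := h1
    have h2 := congrArg SemidirectProduct.rightHom hζ
    simp [ζH] at h2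
    exact hf (inv_mul_eq_one.1 h2.symm)
  · rw [hHcard, hp.dvd_mul, hp.dvd_mul, or_self]
    exact ⟨fun h => (hpe p hp).1 (h.elim id (hWp p hp)), fun h => Or.inl ((hpe p hp).2 h)⟩
  · rw [hZcard]
    exact hpe p hp
  · rw [hZcard]
    exact hsq

end CfsgLib.CentralTypeEmbedding
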